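import Groth.Prelude.Def_Coh
import Groth.Agent.ModShf.ToSheaf
import Mathlib.Algebra.Homology.DerivedCategory.Ext.ExactSequences
import Mathlib.Algebra.Homology.ShortComplex.ExactFunctor
import Mathlib.RingTheory.Noetherian.Basic
import Mathlib.Algebra.Exact.Basic

/-!
Linearity of the long exact cohomology sequence of O-modules over global functions, and finiteness
along it.
-/

open CategoryTheory CategoryTheory.Limits AlgebraicGeometry Opposite Abelian

universe u

noncomputable section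

namespace Groth.Agent.CohLin

variable {X : Scheme.{u}}

variable (X) in
/-- The underlying abelian sheaf, as a functor on `X.Modules`. -/
def abFun : X.Modules ⥤ Sheaf (Opens.grothendieckTopology X) AddCommGrpCat.{u} :=
  SheafOfModules.toSheaf X.ringCatSheaf

instance : (abFun X).Additive := inferInstanceAs (SheafOfModules.toSheaf X.ringCatSheaf).Additive

instance : PreservesFiniteLimits (abFun X) :=
  inferInstanceAs (PreservesFiniteLimits (SheafOfModules.toSheaf X.ringCatSheaf))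

instance : PreservesFiniteColimits (abFun X) :=
  inferInstanceAs (PreservesFiniteColimits (SheafOfModules.toSheaf X.ringCatSheaf))

/-- The morphism of abelian sheaves underlying a morphism of modules. -/
abbrev abMap {M N : X.Modules} (φ : M ⟶ N) : Coh.toAb M ⟶ Coh.toAb N :=
  (abFun X).map φ

theorem abMap_comp {M N P : X.Modules} (φ : M ⟶ N) (ψ : N ⟶ P) :
    abMap (φ ≫ ψ) = abMap φ ≫ abMap ψ := Functor.map_comp _ _ _

theorem abMap_add {M N : X.Modules} (φ ψ : M ⟶ N) : abMap (φ + ψ) = abMap φ + abMap ψ := rfl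

theorem smulAb_natural {M N : X.Modules} (φ : M ⟶ N) (r : Coh.Γtop X) :
    Coh.smulAb M r ≫ abMap φ = abMap φ ≫ Coh.smulAb N r := by
  ext U m
  exact (φ.val.app U).hom.map_smul (Coh.resTop X U r) m

/-- The map on cohomology induced by a morphism, linear over global functions. -/
def hMap {M N : X.Modules} (φ : M ⟶ N) (n : ℕ) : Coh.HH X M n →ₗ[Coh.Γtop X] Coh.HH X N n where
  toFun := Sheaf.H.map (abMap φ) n
  map_add' := map_add _
  map_smul' r x := by
    change Sheaf.H.map (abMap φ) n (Sheaf.H.map (Coh.smulAb M r) n x) =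
      Sheaf.H.map (Coh.smulAb N r) n (Sheaf.H.map (abMap φ) n x)
    rw [← Sheaf.H.map_comp_apply, ← Sheaf.H.map_comp_apply, smulAb_natural]

theorem hMap_comp {M N P : X.Modules} (φ : M ⟶ N) (ψ : N ⟶ P) (n : ℕ) (x : Coh.HH X M n) :
    hMap (φ ≫ ψ) n x = hMap ψ n (hMap φ n x) := by
  change Sheaf.H.map (abMap (φ ≫ ψ)) n x = Sheaf.H.map (abMap ψ) n (Sheaf.H.map (abMap φ) n x)
  rw [abMap_comp, Sheaf.H.map_comp_apply]

theorem hMap_id (M : X.Modules) (n : ℕ) (x : Coh.HH X M n) : hMap (𝟙 M) n x = x := by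
  change Sheaf.H.map (abMap (𝟙 M)) n x = x
  rw [show abMap (𝟙 M) = 𝟙 _ from CategoryTheory.Functor.map_id _ _]
  exact Sheaf.H.map_id_apply x

theorem hMap_add {M N : X.Modules} (φ ψ : M ⟶ N) (n : ℕ) (x : Coh.HH X M n) :
    hMap (φ + ψ) n x = hMap φ n x + hMap ψ n x := by
  change Sheaf.H.map (abMap (φ + ψ)) n x = _
  rw [abMap_add]
  exact Sheaf.H.map_add_apply _ _ _

/-- `hMap` as an additive function of the morphism. -/
def hMapHom (M N : X.Modules) (n : ℕ) (x : Coh.HH X M n) : (M ⟶ N) →+ Coh.HH X N n :=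
  AddMonoidHom.mk' (fun φ => hMap φ n x) fun φ ψ => hMap_add φ ψ n x

/-- Isomorphic modules have isomorphic cohomology. -/
def hIso {M N : X.Modules} (e : M ≅ N) (n : ℕ) : Coh.HH X M n ≃ₗ[Coh.Γtop X] Coh.HH X N n :=
  LinearEquiv.ofLinearMap (hMap e.hom n) (hMap e.inv n)
    (LinearMap.ext fun x => by
      rw [LinearMap.comp_apply, ← hMap_comp, e.inv_hom_id, hMap_id]; rfl)
    (LinearMap.ext fun x => by
      rw [LinearMap.comp_apply, ← hMap_comp, e.hom_inv_id, hMap_id]; rfl)

section Generic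

variable {C : Type*} [Category C] [Abelian C] [HasExt.{u} C] {A B D : C} {f : A ⟶ B} {g : B ⟶ D}
  {w : f ≫ g = 0} (h : (ShortComplex.mk f g w).ShortExact) {K : C}

theorem gen_comp_extClass : (Ext.mk₀ g).comp h.extClass (zero_add 1) = 0 := h.comp_extClass

theorem gen_extClass_comp : h.extClass.comp (Ext.mk₀ f) (add_zero 1) = 0 := h.extClass_comp

theorem gen_natural (a : A ⟶ A) (b : B ⟶ B) (d : D ⟶ D) (h₁ : a ≫ f = f ≫ b) (h₂ : b ≫ g = g ≫ d) :
    h.extClass.comp (Ext.mk₀ a) (add_zero 1) = (Ext.mk₀ d).comp h.extClass (zero_add 1) :=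
  ShortComplex.ShortExact.extClass_naturality h h { τ₁ := a, τ₂ := b, τ₃ := d }

include h in
theorem gen_exact₂ {n : ℕ} (x : Ext K B n) (hx : x.comp (Ext.mk₀ g) (add_zero n) = 0) :
    ∃ y : Ext K A n, y.comp (Ext.mk₀ f) (add_zero n) = x :=
  Ext.covariant_sequence_exact₂ K h x hx

theorem gen_exact₃ {n : ℕ} (x : Ext K D n) (hx : x.comp h.extClass rfl = 0) :
    ∃ y : Ext K B n, y.comp (Ext.mk₀ g) (add_zero n) = x :=
  Ext.covariant_sequence_exact₃ K h x rfl hx

theorem gen_exact₁ {n : ℕ} (x : Ext K A (n + 1)) (hx : x.comp (Ext.mk₀ f) (add_zero _) = 0) :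
    ∃ y : Ext K D n, y.comp h.extClass rfl = x :=
  Ext.covariant_sequence_exact₁ K h x hx rfl

theorem gen_natural_postcomp (a : A ⟶ A) (b : B ⟶ B) (d : D ⟶ D) (h₁ : a ≫ f = f ≫ b)
    (h₂ : b ≫ g = g ≫ d) {n : ℕ} (x : Ext K D n) :
    (x.comp (Ext.mk₀ d) (add_zero n)).comp h.extClass rfl =
      (x.comp h.extClass rfl).comp (Ext.mk₀ a) (add_zero (n + 1)) := by
  rw [Ext.comp_assoc_of_second_deg_zero, Ext.comp_assoc_of_third_deg_zero,
    gen_natural h a b d h₁ h₂]

theorem gen_g_postcomp {n : ℕ} (x : Ext K B n) :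
    (x.comp (Ext.mk₀ g) (add_zero n)).comp h.extClass rfl = 0 := by
  rw [Ext.comp_assoc_of_second_deg_zero, gen_comp_extClass h, Ext.comp_zero]

theorem gen_postcomp_f {n : ℕ} (x : Ext K D n) :
    (x.comp h.extClass rfl).comp (Ext.mk₀ f) (add_zero (n + 1)) = 0 := by
  rw [Ext.comp_assoc_of_third_deg_zero, gen_extClass_comp h, Ext.comp_zero]

end Generic

theorem abMap_w (S : ShortComplex X.Modules) : abMap S.f ≫ abMap S.g = 0 := by
  rw [← abMap_comp, S.zero]
  exact (abFun X).map_zero _ _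

theorem shortExact_abSeq {S : ShortComplex X.Modules} (hS : S.ShortExact) :
    (ShortComplex.mk (abMap S.f) (abMap S.g) (abMap_w S)).ShortExact :=
  hS.map_of_exact (abFun X)

variable {S : ShortComplex X.Modules} (hS : S.ShortExact)

/-- The extension class of the underlying sequence of abelian sheaves. -/
def extCl : Ext (Coh.toAb S.X₃) (Coh.toAb S.X₁) 1 := (shortExact_abSeq hS).extClass

/-- The connecting map, as an additive map. -/
def hδAdd (n : ℕ) : Coh.HH X S.X₃ n →+ Coh.HH X S.X₁ (n + 1) := (extCl hS).postcomp _ rfl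

theorem smul_eq_comp (M : X.Modules) {n : ℕ} (r : Coh.Γtop X) (x : Coh.HH X M n) :
    r • x = Ext.comp x (Ext.mk₀ (Coh.smulAb M r)) (add_zero n) := rfl

theorem hMap_apply {M N : X.Modules} (φ : M ⟶ N) {n : ℕ} (x : Coh.HH X M n) :
    hMap φ n x = Ext.comp x (Ext.mk₀ (abMap φ)) (add_zero n) := rfl

theorem hδAdd_apply {n : ℕ} (x : Coh.HH X S.X₃ n) :
    hδAdd hS n x = Ext.comp x (extCl hS) rfl := rfl

variable (X) in
/-- The constant sheaf `ℤ`. -/
abbrev cst : Sheaf (Opens.grothendieckTopology X) AddCommGrpCat.{u} :=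
  (constantSheaf (Opens.grothendieckTopology X) AddCommGrpCat.{u}).obj
    (AddCommGrpCat.of (ULift.{u} ℤ))

theorem hδAdd_smul {n : ℕ} (r : Coh.Γtop X) (x : Coh.HH X S.X₃ n) :
    hδAdd hS n (r • x) = r • hδAdd hS n x := by
  rw [smul_eq_comp, smul_eq_comp, hδAdd_apply, hδAdd_apply]
  exact gen_natural_postcomp (K := cst X) (shortExact_abSeq (X := X) (S := S) hS)
    (Coh.smulAb S.X₁ r) (Coh.smulAb S.X₂ r) (Coh.smulAb S.X₃ r)
    (smulAb_natural S.f r) (smulAb_natural S.g r) x

/-- The connecting map, linear over global functions. -/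
def hδ (n : ℕ) : Coh.HH X S.X₃ n →ₗ[Coh.Γtop X] Coh.HH X S.X₁ (n + 1) where
  toFun := hδAdd hS n
  map_add' := map_add _
  map_smul' r x := hδAdd_smul hS r x

theorem hδ_apply {n : ℕ} (x : Coh.HH X S.X₃ n) : hδ hS n x = Ext.comp x (extCl hS) rfl := rfl

include hS in
theorem exists_hMap_f_eq {n : ℕ} (x : Coh.HH X S.X₂ n) (hx : hMap S.g n x = 0) :
    ∃ y, hMap S.f n y = x := by
  rw [hMap_apply] at hx
  obtain ⟨y, hy⟩ := gen_exact₂ (K := cst X) (shortExact_abSeq (X := X) (S := S) hS) x hx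
  exact ⟨y, (hMap_apply S.f y).trans hy⟩

theorem exists_hMap_g_eq {n : ℕ} (x : Coh.HH X S.X₃ n) (hx : hδ hS n x = 0) :
    ∃ y, hMap S.g n y = x := by
  rw [hδ_apply] at hx
  obtain ⟨y, hy⟩ := gen_exact₃ (K := cst X) (shortExact_abSeq (X := X) (S := S) hS) x hx
  exact ⟨y, (hMap_apply S.g y).trans hy⟩

theorem exists_hδ_eq {n : ℕ} (x : Coh.HH X S.X₁ (n + 1)) (hx : hMap S.f (n + 1) x = 0) :
    ∃ y, hδ hS n y = x := by
  rw [hMap_apply] at hx
  obtain ⟨y, hy⟩ := gen_exact₁ (K := cst X) (shortExact_abSeq (X := X) (S := S) hS) x hx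
  exact ⟨y, (hδ_apply hS y).trans hy⟩

theorem hMap_g_hMap_f {n : ℕ} (x : Coh.HH X S.X₁ n) : hMap S.g n (hMap S.f n x) = 0 := by
  rw [← hMap_comp, S.zero]
  exact map_zero (hMapHom _ _ n x)

theorem hδ_hMap_g {n : ℕ} (x : Coh.HH X S.X₂ n) : hδ hS n (hMap S.g n x) = 0 := by
  rw [hδ_apply, hMap_apply]
  exact gen_g_postcomp (K := cst X) (shortExact_abSeq (X := X) (S := S) hS) x

theorem hMap_f_hδ {n : ℕ} (x : Coh.HH X S.X₃ n) : hMap S.f (n + 1) (hδ hS n x) = 0 := by
  rw [hδ_apply, hMap_apply]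
  exact gen_postcomp_f (K := cst X) (shortExact_abSeq (X := X) (S := S) hS) x

include hS in
theorem subsingleton_X₃ {n : ℕ} [Subsingleton (Coh.HH X S.X₂ n)]
    [Subsingleton (Coh.HH X S.X₁ (n + 1))] : Subsingleton (Coh.HH X S.X₃ n) := by
  refine subsingleton_of_forall_eq 0 fun x => ?_
  obtain ⟨y, rfl⟩ := exists_hMap_g_eq hS x (Subsingleton.elim _ _)
  rw [Subsingleton.elim y 0, map_zero]

include hS in
theorem subsingleton_X₂ {n : ℕ} [Subsingleton (Coh.HH X S.X₁ n)]
    [Subsingleton (Coh.HH X S.X₃ n)] : Subsingleton (Coh.HH X S.X₂ n) := by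
  refine subsingleton_of_forall_eq 0 fun x => ?_
  obtain ⟨y, rfl⟩ := exists_hMap_f_eq hS x (Subsingleton.elim _ _)
  rw [Subsingleton.elim y 0, map_zero]

include hS in
theorem subsingleton_X₁ {n : ℕ} [Subsingleton (Coh.HH X S.X₂ (n + 1))]
    [Subsingleton (Coh.HH X S.X₃ n)] : Subsingleton (Coh.HH X S.X₁ (n + 1)) := by
  refine subsingleton_of_forall_eq 0 fun x => ?_
  obtain ⟨y, rfl⟩ := exists_hδ_eq hS x (Subsingleton.elim _ _)
  rw [Subsingleton.elim y 0, map_zero]

section Over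

variable (A : Type u) [CommRing A] [X.Over (Spec (CommRingCat.of A))]

/-- A map linear over global functions is linear over the base. -/
def overLin {M N : X.Modules} {m n : ℕ} (f : Coh.HH X M m →ₗ[Coh.Γtop X] Coh.HH X N n) :
    Coh.HH X M m →ₗ[A] Coh.HH X N n where
  toFun := f
  map_add' := f.map_add
  map_smul' a x := f.map_smul (Coh.toGlobal (X ↘ Spec (CommRingCat.of A)) a) x

theorem overLin_apply {M N : X.Modules} {m n : ℕ} (f : Coh.HH X M m →ₗ[Coh.Γtop X] Coh.HH X N n)
    (x : Coh.HH X M m) : overLin A f x = f x := rfl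

/-- Finiteness of cohomology passes to isomorphic modules. -/
theorem finite_of_iso {M N : X.Modules} (e : M ≅ N) {n : ℕ} [Module.Finite A (Coh.HH X M n)] :
    Module.Finite A (Coh.HH X N n) :=
  Module.Finite.of_surjective (overLin A (hMap e.hom n)) fun x => ⟨hMap e.inv n x, by
    rw [overLin_apply, ← hMap_comp, e.inv_hom_id, hMap_id]⟩

include hS in
theorem finite_X₃ [IsNoetherianRing A] {n : ℕ} [Module.Finite A (Coh.HH X S.X₂ n)]
    [Module.Finite A (Coh.HH X S.X₁ (n + 1))] : Module.Finite A (Coh.HH X S.X₃ n) := by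
  refine Module.Finite.of_fg_top ?_
  refine Submodule.fg_of_fg_map_of_fg_inf_ker (overLin A (hδ hS n)) (IsNoetherian.noetherian _) ?_
  have : (⊤ : Submodule A (Coh.HH X S.X₃ n)) ⊓ LinearMap.ker (overLin A (hδ hS n)) =
      LinearMap.range (overLin A (hMap S.g n)) := by
    rw [top_inf_eq]
    refine le_antisymm (fun x hx => ?_) ?_
    · obtain ⟨y, hy⟩ := exists_hMap_g_eq hS x hx
      exact ⟨y, hy⟩
    · rintro _ ⟨y, rfl⟩
      exact hδ_hMap_g hS y
  rw [this, LinearMap.range_eq_map]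
  exact Submodule.FG.map _ Module.Finite.fg_top

include hS in
theorem finite_X₂ [IsNoetherianRing A] {n : ℕ} [Module.Finite A (Coh.HH X S.X₁ n)]
    [Module.Finite A (Coh.HH X S.X₃ n)] : Module.Finite A (Coh.HH X S.X₂ n) := by
  refine Module.Finite.of_fg_top ?_
  refine Submodule.fg_of_fg_map_of_fg_inf_ker (overLin A (hMap S.g n)) (IsNoetherian.noetherian _) ?_
  have : (⊤ : Submodule A (Coh.HH X S.X₂ n)) ⊓ LinearMap.ker (overLin A (hMap S.g n)) =
      LinearMap.range (overLin A (hMap S.f n)) := by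
    rw [top_inf_eq]
    refine le_antisymm (fun x hx => ?_) ?_
    · obtain ⟨y, hy⟩ := exists_hMap_f_eq hS x hx
      exact ⟨y, hy⟩
    · rintro _ ⟨y, rfl⟩
      exact hMap_g_hMap_f y
  rw [this, LinearMap.range_eq_map]
  exact Submodule.FG.map _ Module.Finite.fg_top

include hS in
theorem finite_X₁ [IsNoetherianRing A] {n : ℕ} [Module.Finite A (Coh.HH X S.X₂ (n + 1))]
    [Module.Finite A (Coh.HH X S.X₃ n)] : Module.Finite A (Coh.HH X S.X₁ (n + 1)) := by
  refine Module.Finite.of_fg_top ?_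
  refine Submodule.fg_of_fg_map_of_fg_inf_ker (overLin A (hMap S.f (n + 1)))
    (IsNoetherian.noetherian _) ?_
  have : (⊤ : Submodule A (Coh.HH X S.X₁ (n + 1))) ⊓ LinearMap.ker (overLin A (hMap S.f (n + 1))) =
      LinearMap.range (overLin A (hδ hS n)) := by
    rw [top_inf_eq]
    refine le_antisymm (fun x hx => ?_) ?_
    · obtain ⟨y, hy⟩ := exists_hδ_eq hS x hx
      exact ⟨y, hy⟩
    · rintro _ ⟨y, rfl⟩
      exact hMap_f_hδ hS y
  rw [this, LinearMap.range_eq_map]
  exact Submodule.FG.map _ Module.Finite.fg_top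

end Over

section Coproduct

variable {κ : Type u} [Finite κ] (F : κ → X.Modules)

instance : HasBiproduct F := by
  cases nonempty_fintype κ
  exact HasBiproduct.mk
    { bicone := Bicone.ofColimitCocone (colimit.isColimit (Discrete.functor F))
      isBilimit := biconeIsBilimitOfColimitCoconeOfIsColimit (colimit.isColimit _) }

theorem total_eq [Fintype κ] : ∑ j, biproduct.π F j ≫ biproduct.ι F j = 𝟙 (⨁ F) := by
  classical
  refine biproduct.hom_ext' _ _ fun i => ?_
  simp [Preadditive.comp_sum, biproduct.ι_π_assoc, dite_comp]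

theorem eq_sum_hMap [Fintype κ] (n : ℕ) (x : Coh.HH X (⨁ F) n) :
    x = ∑ j, hMap (biproduct.ι F j) n (hMap (biproduct.π F j) n x) := by
  refine (hMap_id (⨁ F) n x).symm.trans ?_
  refine (congrArg (hMapHom (⨁ F) (⨁ F) n x) (total_eq F).symm).trans ?_
  refine (map_sum (hMapHom (⨁ F) (⨁ F) n x) _ _).trans ?_
  exact Finset.sum_congr rfl fun j _ => hMap_comp _ _ n x

theorem finite_sigma (A : Type u) [CommRing A] [X.Over (Spec (CommRingCat.of A))] (n : ℕ)
    [∀ j, Module.Finite A (Coh.HH X (F j) n)] : Module.Finite A (Coh.HH X (∐ F) n) := by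
  classical
  cases nonempty_fintype κ
  have : Module.Finite A (Coh.HH X (⨁ F) n) := by
    refine Module.Finite.of_surjective
      (∑ j, (overLin A (hMap (biproduct.ι F j) n)).comp (LinearMap.proj j) :
        ((j : κ) → Coh.HH X (F j) n) →ₗ[A] Coh.HH X (⨁ F) n) fun x => ?_
    refine ⟨fun j => hMap (biproduct.π F j) n x, ?_⟩
    simp only [LinearMap.coe_sum, Finset.sum_apply, LinearMap.comp_apply, LinearMap.proj_apply,
      overLin_apply]
    exact (eq_sum_hMap F n x).symm
  exact finite_of_iso A (biproduct.isoCoproduct F)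

theorem subsingleton_sigma (n : ℕ) [∀ j, Subsingleton (Coh.HH X (F j) n)] :
    Subsingleton (Coh.HH X (∐ F) n) := by
  classical
  cases nonempty_fintype κ
  have : Subsingleton (Coh.HH X (⨁ F) n) := subsingleton_of_forall_eq 0 fun x => by
    rw [eq_sum_hMap F n x]
    exact Finset.sum_eq_zero fun j _ => by
      rw [Subsingleton.elim (hMap (biproduct.π F j) n x) 0, map_zero]
  exact (hIso (biproduct.isoCoproduct F) n).symm.toEquiv.subsingleton

end Coproduct

end Groth.Agent.CohLin
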